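import Cfsg.Agent.Mrg.Omega.NOThree.TF.Blk
import Cfsg.Agent.Lib.ProductSet

section


/-!
# NO-3S TwoMid: inner pairs, REG (helper144, bb #18799 (1), (2); after helper430, bb #17614)

`Sys H Lam U` of `NOThree/LL/One.lean`; `Ih Lam U lam Ah`: an exact `Ah ≤ B_λ`, normalised by elements inducing every
`u ↦ u + φ(u)λ` on `U_λ`, with (***) `v ∈ [M, Ah] ∩ Λ ⟹ Ah` centralises `U_v`.

* `Fz.ca_ex`: for an exact `X ≤ Ah` and `f ∈ X#` inverting `h`, `C_X(μ)` (`μ = h λ`) is exact and centralises `Z_μ`;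
* `Fy.card_A`: for a minimal exact (atom) `A ≤ Ah`: `|A| |U_λ ∩ U_μ| = |U_λ|`, `U_λ = [μ, A] ⊕ (U_λ ∩ U_μ)`,
  `M = U_μ + C_M(A)`;
* `Ih.cv_eq`: `C_M(a) = C_M(A)` for `a ∈ A#`; `Fy.four_a`: an exact `X`, `A ≤ X ≤ Ah`, acts on `U_μ` as `A`.
-/

set_option autoImplicit false
set_option linter.unusedSectionVars false

namespace Cfsg.Agent.Omega.NO3S.TwoMid.Inn.Reg

open Cfsg.Agent.Omega.NOThree.LL.One
open Cfsg.Agent.Omega.NOThree.LL.One.Fx (card_eq_of_smul smul_sub_conj f'_sq card_Z f'_f')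

variable {H : Type*} {M : Type*} [Group H] [AddCommGroup M] [DistribMulAction H M]

/-- An inner pair, seen in `M_b`. -/
structure Ih [Finite H] [Finite M] (Lam : Set M) (U : M → AddSubgroup M) (lam : M) (Ah : Subgroup H) : Prop where
  s : Sys H Lam U
  hl : lam ∈ Lam
  le : Ah ≤ bb (U lam)
  ex : Nat.card Ah * Nat.card (cv M Ah) = Nat.card M
  /-- collinearity -/
  col : ∀ {ν μ : M}, ν ∈ Lam → μ ∈ Lam → ν ∈ U μ → μ ∈ U ν
  /-- (***) -/
  star : ∀ {v : M}, v ∈ Lam → v ∈ cm M Ah → ∀ a ∈ Ah, ∀ u ∈ U v, a • u = u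
  /-- (F2') inside the normaliser of `Ah` -/
  J : ∀ φ : M →+ ZMod 2, φ lam = 0 → ∃ k : H, k • lam = lam ∧
    (∀ u ∈ U lam, (φ u = 0 → k • u = u) ∧ (φ u ≠ 0 → k • u = u + lam)) ∧ cj k Ah ≤ Ah

variable (M) in
/-- exact subgroups of `Ah` -/
structure Ex (Ah X : Subgroup H) : Prop where
  le : X ≤ Ah
  ex : Nat.card X * Nat.card (cv M X) = Nat.card M

variable [Finite H] [Finite M] {Lam : Set M} {U : M → AddSubgroup M} {lam : M} {Ah A X : Subgroup H} {f h : H}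

/-- (1): no line vector in `[M, Ah] ∩ U_λ ∩ U_μ` -/
theorem Ih.notLam (i : Ih Lam U lam Ah) (v : Mv Lam U lam f h) (hf : f ∈ Ah) {r : M} (hr : r ∈ cm M Ah)
    (hD : r ∈ U lam ⊓ U (h • lam)) : r ∉ Lam := fun h1 =>
  v.fmov i.s (i.star h1 hr f hf _ (i.col h1 (i.s.smul h i.hl) hD.2))

/-- (NO) -/
theorem Ih.no (i : Ih Lam U lam Ah) (hX : X ≤ Ah) : Nat.card X * Nat.card (cv M X) ≤ Nat.card M :=
  i.s.no i.hl X (hX.trans i.le)

theorem Ih.comm (i : Ih Lam U lam Ah) {a b : H} (ha : a ∈ Ah) (hb : b ∈ Ah) : a * b = b * a :=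
  i.s.comm (i.le ha) (i.le hb)

/-- join and meet of exact subgroups -/
theorem Ih.join (i : Ih Lam U lam Ah) {Y : Subgroup H} (hX : Ex M Ah X) (hY : Ex M Ah Y) :
    Ex M Ah (X ⊔ Y) ∧ Ex M Ah (X ⊓ Y) := by
  have hXY : X ⊔ Y ≤ Ah := sup_le hX.le hY.le
  have hI : X ⊓ Y ≤ Ah := inf_le_left.trans hX.le
  have h1 : Nat.card X * Nat.card Y ≤ Nat.card (X ⊔ Y : Subgroup H) * Nat.card (X ⊓ Y : Subgroup H) := by
    rw [← Lib.ProductSet.card_mul_card_inf X Y]
    refine Nat.mul_le_mul_right _ ?_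
    refine Nat.card_mono (Set.toFinite _) ?_
    rintro _ ⟨x, hx, y, hy, rfl⟩
    exact Subgroup.mul_mem_sup hx hy
  have h2 : Nat.card (cv M X) * Nat.card (cv M Y) ≤
      Nat.card (cv M (X ⊓ Y)) * Nat.card (cv M (X ⊔ Y)) := by
    rw [← card_sup_inf]
    refine Nat.mul_le_mul (card_le (sup_le (cv_anti inf_le_left) (cv_anti inf_le_right))) (card_le ?_)
    rintro m ⟨h3, h4⟩
    have h5 : X ⊔ Y ≤ MulAction.stabilizer H m := sup_le (fun x hx => h3 x hx) fun y hy => h4 y hy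
    exact fun a ha => h5 ha
  have h3 := i.no hXY
  have h4 := i.no hI
  have h5 := hX.ex
  have h6 := hY.ex
  have hM : 0 < Nat.card M := Nat.card_pos
  generalize Nat.card X = x at *
  generalize Nat.card Y = y at *
  generalize e1 : Nat.card (X ⊔ Y : Subgroup H) = p at *
  generalize e2 : Nat.card (X ⊓ Y : Subgroup H) = q at *
  generalize Nat.card (cv M X) = cx at *
  generalize Nat.card (cv M Y) = cy at *
  generalize e3 : Nat.card (cv M (X ⊓ Y)) = cq at *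
  generalize e4 : Nat.card (cv M (X ⊔ Y)) = cp at *
  generalize e5 : Nat.card M = m at *
  have k1 : m * m ≤ (p * cp) * (q * cq) := by
    calc m * m = (x * cx) * (y * cy) := by rw [h5, h6]
      _ = (x * y) * (cx * cy) := by ring
      _ ≤ (p * q) * (cq * cp) := Nat.mul_le_mul h1 h2
      _ = (p * cp) * (q * cq) := by ring
  have k2 : p * cp = m := by
    refine le_antisymm h3 ?_
    refine Nat.le_of_mul_le_mul_right (k1.trans ?_) hM
    exact Nat.mul_le_mul_left _ h4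
  have k3 : q * cq = m := by
    refine le_antisymm h4 ?_
    refine Nat.le_of_mul_le_mul_left (k1.trans ?_) hM
    exact Nat.mul_le_mul_right _ h3
  exact ⟨⟨hXY, by rw [e1, e4, e5, k2]⟩, ⟨hI, by rw [e2, e3, e5, k3]⟩⟩

/-! ### exact subgroups -/

/-- `X ≤ Ah` exact, `f ∈ X#` inverts `h`. -/
structure Fz [Finite H] [Finite M] (Lam : Set M) (U : M → AddSubgroup M) (lam : M) (Ah X : Subgroup H) (f h : H) :
    Prop where
  i : Ih Lam U lam Ah
  e : Ex M Ah X
  v : Mv Lam U lam f h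
  fX : f ∈ X

/-- `Z_μ = [λ, B_μ] + (U_λ ∩ U_μ)` -/
abbrev zz (U : M → AddSubgroup M) (lam mu : M) : AddSubgroup M :=
  cs (U mu) lam (bb (U mu) : Subgroup H) le_rfl ⊔ (U lam ⊓ U mu)

theorem card_U (s : Sys H Lam U) (hl : lam ∈ Lam) (h : H) : Nat.card (U (h • lam)) = Nat.card (U lam) :=
  Nat.card_congr
    { toFun := fun u => ⟨h⁻¹ • (u : M), s.mem_smul h hl u.2⟩
      invFun := fun u => ⟨h • (u : M), s.conj h hl u.2⟩
      left_inv := fun u => Subtype.ext (smul_inv_smul h (u : M))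
      right_inv := fun u => Subtype.ext (inv_smul_smul h (u : M)) }

namespace Fz

theorem le (x : Fz Lam U lam Ah X f h) : X ≤ bb (U lam) := x.e.le.trans x.i.le

theorem fA (x : Fz Lam U lam Ah X f h) : f ∈ Ah := x.e.le x.fX

theorem hT (x : Fz Lam U lam Ah X f h) : ∀ r ∈ cm M Ah, r ∈ U lam ⊓ U (h • lam) → r ∉ Lam := fun _ hr hD =>
  x.i.notLam x.v x.fA hr hD

theorem cvD (x : Fz Lam U lam Ah X f h) : U (h • lam) ⊓ cv M X = U lam ⊓ U (h • lam) := by
  refine le_antisymm ?_ ?_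
  · rintro u ⟨h1, h2⟩
    exact ⟨(x.v.fix x.i.s h1 (h2 f x.fX)).2, h1⟩
  · rintro u ⟨h1, h2⟩
    exact ⟨h2, le_cv_of_le_bb x.le h1⟩

/-- (2)(i) -/
theorem two_i (x : Fz Lam U lam Ah X f h) {e : H} (he : e ∈ Ah)
    (h1 : e • h • lam - h • lam ∈ U lam ⊓ U (h • lam)) : e • h • lam = h • lam :=
  x.v.two_i x.i.s x.hT (fun m => sub_mem_cm he m) h1

/-- (2)(ii) -/
theorem two_ii (x : Fz Lam U lam Ah X f h) {e : H} (he : e ∈ Ah) (hm : e • h • lam = h • lam) {g : H}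
    (hg : g ∈ (bb (U (h • lam)) : Subgroup H)) : e • (g • lam - lam) = g • lam - lam :=
  x.v.two_ii x.i.s x.hT (x.i.le he) (fun m => sub_mem_cm he m) hm hg

theorem disj (x : Fz Lam U lam Ah X f h) : cs (U lam) (h • lam) X x.le ⊓ (U lam ⊓ U (h • lam)) = ⊥ := by
  rw [eq_bot_iff]
  rintro u ⟨⟨a, ha, rfl⟩, h2⟩
  rw [AddSubgroup.mem_bot, sub_eq_zero]
  exact x.two_i (x.e.le ha) h2

theorem f_notMem (x : Fz Lam U lam Ah X f h) : f ∉ ca (h • lam) X := fun h1 => x.v.fmov x.i.s h1.2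

theorem card_cs (x : Fz Lam U lam Ah X f h) :
    Nat.card X = Nat.card (ca (h • lam) X) * Nat.card (cs (U lam) (h • lam) X x.le) :=
  Cfsg.Agent.Omega.NOThree.LL.One.card_cs (m := h • lam) x.le

theorem z_le (x : Fz Lam U lam Ah X f h) :
    zz (H := H) U lam (h • lam) ≤ cv M (ca (h • lam) X) := by
  refine sup_le ?_ fun u hu a ha => bb_fix (x.le ha.1) hu.1
  rintro _ ⟨g, hg, rfl⟩ b hb
  exact x.two_ii (x.e.le hb.1) hb.2 hg

/-- (2)(iii): `C_X(μ)` is exact, `C_M(C_X(μ)) = Z_μ + C_M(X)`, `|Z_μ| = |[μ, X]| |U_λ ∩ U_μ|`. -/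
theorem ca_ex (x : Fz Lam U lam Ah X f h) :
    Ex M Ah (ca (h • lam) X) ∧ cv M (ca (h • lam) X) = zz (H := H) U lam (h • lam) ⊔ cv M X ∧
      Nat.card (zz (H := H) U lam (h • lam)) =
        Nat.card (cs (U lam) (h • lam) X x.le) * Nat.card (U lam ⊓ U (h • lam) : AddSubgroup M) := by
  have s := x.i.s
  have h2 := x.card_cs
  have h3 := card_Z s x.v
  have h4 : Nat.card (cs (U lam) (h • lam) X x.le) * Nat.card (U lam ⊓ U (h • lam) : AddSubgroup M) ≤
      Nat.card (zz (H := H) U lam (h • lam)) := by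
    rw [← h3, ← card_sup_of_disj x.disj]
    exact card_le (sup_le_sup_right (fun u hu => by
      obtain ⟨a, ha, h5⟩ := hu
      exact ⟨a, x.le ha, h5⟩) _)
  have h5 := x.z_le
  have h6 : zz (H := H) U lam (h • lam) ⊓ cv M X = U lam ⊓ U (h • lam) := by
    refine le_antisymm ?_ (le_inf le_sup_right (le_trans inf_le_left (le_cv_of_le_bb x.le)))
    conv_rhs => rw [← x.cvD]
    exact inf_le_inf_right _ (sup_le cs_le inf_le_right)
  have h7 := card_sup_inf (zz (H := H) U lam (h • lam)) (cv M X)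
  rw [h6] at h7
  have h8' := sup_le h5 (cv_anti (M := M) (inf_le_left : ca (h • lam) X ≤ X))
  have h8 := card_le h8'
  have h9 := x.e.ex
  have hle : ca (h • lam) X ≤ Ah := inf_le_left.trans x.e.le
  have h10 := x.i.no hle
  have hd : 0 < Nat.card (U lam ⊓ U (h • lam) : AddSubgroup M) := Nat.card_pos
  have hp : 0 < Nat.card (ca (h • lam) X) := Nat.card_pos
  have hc : 0 < Nat.card (cv M X) := Nat.card_pos
  rw [h2] at h9
  suffices key : Nat.card (ca (h • lam) X) * Nat.card (cv M (ca (h • lam) X)) = Nat.card M ∧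
      Nat.card (cv M (ca (h • lam) X)) ≤ Nat.card (zz (H := H) U lam (h • lam) ⊔ cv M X : AddSubgroup M) ∧
      Nat.card (zz (H := H) U lam (h • lam)) =
        Nat.card (cs (U lam) (h • lam) X x.le) * Nat.card (U lam ⊓ U (h • lam) : AddSubgroup M) by
    exact ⟨⟨hle, key.1⟩, (eq_of_card_le h8' key.2.1).symm, key.2.2⟩
  clear h2 h3 h5 h6 h8'
  generalize Nat.card (U lam ⊓ U (h • lam) : AddSubgroup M) = d at *
  generalize Nat.card (ca (h • lam) X) = p at *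
  generalize Nat.card (cv M (ca (h • lam) X)) = t at *
  generalize Nat.card (cs (U lam) (h • lam) X x.le) = a at *
  generalize Nat.card (zz (H := H) U lam (h • lam) ⊔ cv M X : AddSubgroup M) = w at *
  generalize Nat.card (zz (H := H) U lam (h • lam)) = z at *
  generalize Nat.card (cv M X) = c at *
  generalize Nat.card M = m at *
  -- p * a * c = m, a * d ≤ z, w * d = z * c, w ≤ t, p * t ≤ m
  have k1 : p * (a * d) * c ≤ p * z * c := Nat.mul_le_mul_right _ (Nat.mul_le_mul_left _ h4)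
  have k2 : p * z * c = p * w * d := by rw [mul_assoc, ← h7, ← mul_assoc]
  have k3 : p * w * d ≤ p * t * d := Nat.mul_le_mul_right _ (Nat.mul_le_mul_left _ h8)
  have k4 : p * t * d ≤ m * d := Nat.mul_le_mul_right _ h10
  have k5 : p * (a * d) * c = m * d := by rw [← h9]; ring
  have k6 : p * t = m := Nat.eq_of_mul_eq_mul_right hd (by omega)
  have k7 : p * w * d = p * t * d := by omega
  have k8 : w = t := Nat.eq_of_mul_eq_mul_left hp (Nat.eq_of_mul_eq_mul_right hd k7)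
  have k9 : p * z * c = p * (a * d) * c := by omega
  exact ⟨k6, k8.ge, Nat.eq_of_mul_eq_mul_left hp (Nat.eq_of_mul_eq_mul_right hc k9)⟩

end Fz

/-! ### atoms -/

/-- `A ≤ Ah` minimal exact, `f ∈ A#` inverts `h`. -/
structure Fy [Finite H] [Finite M] (Lam : Set M) (U : M → AddSubgroup M) (lam : M) (Ah A : Subgroup H) (f h : H) :
    Prop where
  i : Ih Lam U lam Ah
  hA : A ≤ Ah
  me : ME U lam A
  v : Mv Lam U lam f h
  fA : f ∈ A

namespace Fy

theorem z (x : Fy Lam U lam Ah A f h) : Fz Lam U lam Ah A f h := ⟨x.i, ⟨x.hA, x.me.ex⟩, x.v, x.fA⟩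

theorem cvD (x : Fy Lam U lam Ah A f h) : U (h • lam) ⊓ cv M A = U lam ⊓ U (h • lam) := x.z.cvD

theorem disj (x : Fy Lam U lam Ah A f h) : cs (U lam) (h • lam) A x.me.le ⊓ (U lam ⊓ U (h • lam)) = ⊥ := x.z.disj

theorem ca_eq_bot (x : Fy Lam U lam Ah A f h) : ca (h • lam) A = ⊥ := by
  by_contra hP
  have hP' : ca (h • lam) A ≠ A := fun h1 => x.z.f_notMem (by rw [h1]; exact x.fA)
  have h1 := x.me.min (ca (h • lam) A) inf_le_left hP hP'
  rw [x.z.ca_ex.1.ex] at h1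
  exact lt_irrefl _ h1

/-- the cardinalities of (2) -/
theorem card_A (x : Fy Lam U lam Ah A f h) :
    Nat.card A * Nat.card (U lam ⊓ U (h • lam) : AddSubgroup M) = Nat.card (U lam) ∧
      cs (U lam) (h • lam) A x.me.le ⊔ (U lam ⊓ U (h • lam)) = U lam ∧ U (h • lam) ⊔ cv M A = ⊤ ∧
      Nat.card (cs (U lam) (h • lam) A x.me.le) = Nat.card A := by
  have h1 := x.z.card_cs
  rw [x.ca_eq_bot, Subgroup.card_bot, one_mul] at h1
  have h2 := card_sup_of_disj x.disj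
  have h3 := card_sup_inf (U (h • lam)) (cv M A)
  rw [x.cvD, card_U x.i.s x.i.hl] at h3
  have h4 : cs (U lam) (h • lam) A x.me.le ⊔ (U lam ⊓ U (h • lam)) ≤ U lam := sup_le cs_le inf_le_left
  have h5 := card_le h4
  have h6 : Nat.card (U (h • lam) ⊔ cv M A : AddSubgroup M) ≤ Nat.card M :=
    Nat.card_le_card_of_injective _ Subtype.val_injective
  have h7 := x.me.ex
  have hd : 0 < Nat.card (U lam ⊓ U (h • lam) : AddSubgroup M) := Nat.card_pos
  have hc : 0 < Nat.card (cv M A) := Nat.card_pos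
  rw [h2, ← h1] at h5
  rw [← h1] at h2
  have h8 : Nat.card (U lam) * Nat.card (cv M A) ≤
      Nat.card A * Nat.card (U lam ⊓ U (h • lam) : AddSubgroup M) * Nat.card (cv M A) := by
    rw [← h3, mul_right_comm, h7]
    exact Nat.mul_le_mul_right _ h6
  have h9 := le_antisymm h5 (Nat.le_of_mul_le_mul_right h8 hc)
  refine ⟨h9, eq_of_card_le h4 (by rw [h2, h9]), ?_, h1.symm⟩
  refine AddSubgroup.eq_top_of_le_card _ ?_
  have h10 : Nat.card M * Nat.card (U lam ⊓ U (h • lam) : AddSubgroup M) ≤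
      Nat.card (U (h • lam) ⊔ cv M A : AddSubgroup M) * Nat.card (U lam ⊓ U (h • lam) : AddSubgroup M) := by
    rw [h3, ← h9, ← h7]
    exact le_of_eq (by ring)
  exact Nat.le_of_mul_le_mul_right h10 hd

/-- `U_μ = [λ, B] + D`, `B = f' A f'⁻¹` -/
theorem u_mu (x : Fy Lam U lam Ah A f h) {u : M} (hu : u ∈ U (h • lam)) :
    ∃ a ∈ A, ∃ d ∈ U lam ⊓ U (h • lam), u = (((h * f) * a * (h * f)⁻¹) • lam - lam) + d := by
  have s := x.i.s
  have h1 : (h * f) • u ∈ U lam := by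
    have := s.conj (h * f) (x.v.mu s) hu
    rwa [x.v.f'_mu s] at this
  rw [← x.card_A.2.1, AddSubgroup.mem_sup] at h1
  obtain ⟨_, ⟨a, ha, rfl⟩, d, hd, h2⟩ := h1
  refine ⟨a, ha, d, hd, ?_⟩
  have h3 : u = (h * f) • (h * f) • u := (f'_f' s x.v u).symm
  have h4 : (h * f) • (a • h • lam - h • lam + d) = u := by rw [h2, ← h3]
  rw [← h4, smul_add, smul_sub_conj, x.v.f'_mu s, x.v.f'_D s hd]

/-- `M = C_M(B) + U_λ` -/
theorem m_eq (x : Fy Lam U lam Ah A f h) (m : M) : ∃ u ∈ U lam, ∃ c : M,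
    (∀ a ∈ A, ((h * f) * a * (h * f)⁻¹) • c = c) ∧ m = u + c := by
  have s := x.i.s
  have h1 : (h * f) • m ∈ U (h • lam) ⊔ cv M A := by
    rw [x.card_A.2.2.1]
    exact AddSubgroup.mem_top _
  rw [AddSubgroup.mem_sup] at h1
  obtain ⟨u, hu, c, hc, h2⟩ := h1
  have h3 : m = (h * f) • (h * f) • m := (f'_f' s x.v m).symm
  refine ⟨(h * f) • u, ?_, (h * f) • c, fun a ha => ?_, by rw [← smul_add, h2, ← h3]⟩
  · have := s.conj (h * f) (x.v.mu s) hu
    rwa [x.v.f'_mu s] at this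
  · rw [mul_smul, inv_smul_smul, mul_smul, hc a ha]

end Fy

/-- `C_M(a) = C_M(A)` for `a ∈ A#` -/
theorem Ih.cv_eq (i : Ih Lam U lam Ah) (hA : A ≤ Ah) (me : ME U lam A) {a : H}
    (ha : a ∈ A) (ha1 : a ≠ 1) {m : M} (hm : a • m = m) : m ∈ cv M A := by
  have s := i.s
  obtain ⟨h, h1, h2, h3⟩ := s.bs i.hl a (me.le ha) ha1
  have x : Fy Lam U lam Ah A a h := ⟨i, hA, me, ⟨i.hl, me.le ha, ha1, h1, h2, h3⟩, ha⟩
  have h4 : m ∈ U (h • lam) ⊔ cv M A := by
    rw [x.card_A.2.2.1]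
    exact AddSubgroup.mem_top m
  rw [AddSubgroup.mem_sup] at h4
  obtain ⟨u, hu, c, hc, rfl⟩ := h4
  rw [smul_add, hc a ha, add_left_inj] at hm
  exact (cv M A).add_mem (le_cv_of_le_bb me.le (x.v.fix s hu hm).2) hc

namespace Fy

/-- for an exact `X`, `A ≤ X ≤ Ah`: `[μ, X] = [μ, A]` -/
theorem cs_eq (x : Fy Lam U lam Ah A f h) (hX : Ex M Ah X) (hAX : A ≤ X) :
    cs (U lam) (h • lam) A x.me.le = cs (U lam) (h • lam) X (hX.le.trans x.i.le) := by
  have y : Fz Lam U lam Ah X f h := ⟨x.i, hX, x.v, hAX x.fA⟩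
  have h2 := card_sup_of_disj y.disj
  have h3 := card_le (sup_le cs_le inf_le_left : cs (U lam) (h • lam) X y.le ⊔ (U lam ⊓ U (h • lam)) ≤ U lam)
  rw [h2, ← x.card_A.1] at h3
  have h4 : cs (U lam) (h • lam) A x.me.le ≤ cs (U lam) (h • lam) X y.le := by
    rintro _ ⟨a, ha, rfl⟩
    exact ⟨a, hAX ha, rfl⟩
  exact eq_of_card_le h4 (by rw [x.card_A.2.2.2]; exact Nat.le_of_mul_le_mul_right h3 Nat.card_pos)

/-- `C_X(μ) = C_X(U_μ)` -/
theorem fix_mu (x : Fy Lam U lam Ah A f h) {e : H} (he : e ∈ Ah) (hm : e • h • lam = h • lam) {u : M}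
    (hu : u ∈ U (h • lam)) : e • u = u := by
  have s := x.i.s
  obtain ⟨a', ha', d, hd, rfl⟩ := x.u_mu hu
  have h11 : (h * f) * a' * (h * f)⁻¹ ∈ (bb (U (h • lam)) : Subgroup H) := by
    have := s.bb_conj (h * f) x.i.hl (x.me.le ha')
    rwa [x.v.f'_lam s] at this
  rw [smul_add, bb_fix (x.i.le he) hd.1, x.z.two_ii he hm h11]

/-- every `b ∈ X` acts on `U_μ` as an element of `A`. -/
theorem four_a (x : Fy Lam U lam Ah A f h) (hX : Ex M Ah X) (hAX : A ≤ X) {b : H} (hb : b ∈ X) :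
    ∃ a ∈ A, ∀ u ∈ U (h • lam), b • u = a • u := by
  have h6 : b • h • lam - h • lam ∈ cs (U lam) (h • lam) A x.me.le := by
    rw [x.cs_eq hX hAX]
    exact ⟨b, hb, rfl⟩
  obtain ⟨a, ha, h7⟩ := h6
  refine ⟨a, ha, fun u hu => ?_⟩
  have h8 : a • h • lam = b • h • lam := sub_left_inj.1 h7
  have h9 : (a⁻¹ * b) • h • lam = h • lam := by rw [mul_smul, ← h8, inv_smul_smul]
  have h10 : (a⁻¹ * b) • u = u :=
    x.fix_mu (Ah.mul_mem (Ah.inv_mem (x.hA ha)) (hX.le hb)) h9 hu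
  rw [mul_smul, inv_smul_eq_iff] at h10
  exact h10

/-- `u ∈ U_μ`, `[u, a] ∈ D` for some `a ∈ A#` implies `u ∈ D`. -/
theorem reg (x : Fy Lam U lam Ah A f h) {a : H} (ha : a ∈ A) (ha1 : a ≠ 1) {u : M} (hu : u ∈ U (h • lam))
    (h1 : a • u - u ∈ U lam ⊓ U (h • lam)) : u ∈ U lam ⊓ U (h • lam) := by
  have s := x.i.s
  have hl := x.i.hl
  obtain ⟨a', ha', d, hd, h2⟩ := x.u_mu hu
  have hz : (h * f) * a' * (h * f)⁻¹ ∈ (bb (U (h • lam)) : Subgroup H) := by
    have := s.bb_conj (h * f) hl (x.me.le ha')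
    rwa [x.v.f'_lam s] at this
  generalize (h * f) * a' * (h * f)⁻¹ = g at h2 hz
  have hla : a • lam = lam := bb_fix (x.me.le ha) (s.mem hl)
  -- `[gλ, a] = [u, a]`
  have h3 : a • u - u = a • g • lam - g • lam := by
    rw [h2, smul_add, smul_sub, hla, bb_fix (x.me.le ha) hd.1]
    abel
  suffices h4 : a • u = u by
    have h5 := x.i.cv_eq x.hA x.me ha ha1 h4
    rw [← x.cvD]
    exact ⟨hu, h5⟩
  by_contra h4
  have h5 : a • g • lam - g • lam ∈ U (g • lam) := by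
    rw [← h3]
    have := s.conj g hl h1.1
    rwa [bb_fix hz h1.2] at this
  have h6 : a • g • lam ∈ U (g • lam) := by
    have := (U (g • lam)).add_mem h5 (s.mem (s.smul g hl))
    rwa [sub_add_cancel] at this
  have h7 : a • g • lam ≠ g • lam := by
    intro h8
    rw [h8, sub_self, sub_eq_zero] at h3
    exact h4 h3
  have h8 := s.coll (s.smul g hl) (s.smul a (s.smul g hl)) h6 h7
  rw [← s.sub_eq, ← h3] at h8
  exact x.z.hT _ (sub_mem_cm (x.hA ha) u) h1 h8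

end Fy

end Cfsg.Agent.Omega.NO3S.TwoMid.Inn.Reg

end

section


/-!
# NO-3S TwoMid: inner pairs, (3) (helper144, bb #18799)

An atom `A ≤ Ah` of order `≥ 4` has `λ ∈ [M, A]`.
-/

set_option autoImplicit false
set_option linter.unusedSectionVars false

namespace Cfsg.Agent.Omega.NO3S.TwoMid.Inn.Three

open Cfsg.Agent.Omega.NOThree.LL.One
open Cfsg.Agent.Omega.NOThree.LL.One.Fx (card_eq_of_smul smul_sub_conj f'_sq card_Z f'_f')
open Cfsg.Agent.Omega.NO3S.TwoMid.Inn.Reg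

variable {H : Type*} {M : Type*} [Group H] [AddCommGroup M] [DistribMulAction H M]
variable [Finite H] [Finite M] {Lam : Set M} {U : M → AddSubgroup M} {lam : M} {Ah A X : Subgroup H} {f h : H}

/-- `A_φ = k A k⁻¹` is an atom of `Ah`, and `A A_φ` is exact. -/
theorem conj_ex (x : Fy Lam U lam Ah A f h) {k : H} (hk : k • lam = lam) (hkA : cj k Ah ≤ Ah) :
    ME U lam (cj k A) ∧ cj k A ≤ Ah ∧ Ex M Ah (A ⊔ cj k A) := by
  have mek := x.me.conj x.i.s x.i.hl hk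
  have h1 : cj k A ≤ Ah := (cj_mono x.hA).trans hkA
  exact ⟨mek, h1, (x.i.join ⟨x.hA, x.me.ex⟩ ⟨h1, mek.ex⟩).1⟩

/-- `A_φ` centralises `U_μ` if `φ ≠ 0` on `[μ, A]`. -/
theorem four (x : Fy Lam U lam Ah A f h) (hn : lam ∉ cm M A) {φ : M →+ ZMod 2} {k : H} (hk : k • lam = lam)
    (hφ : ∀ u ∈ U lam, (φ u = 0 → k • u = u) ∧ (φ u ≠ 0 → k • u = u + lam)) (hkA : cj k Ah ≤ Ah)
    {a₀ : H} (h0 : a₀ ∈ A) (h0' : φ (a₀ • h • lam - h • lam) ≠ 0) {b : H} (hb : b ∈ cj k A) {u : M}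
    (hu : u ∈ U (h • lam)) : b • u = u := by
  have s := x.i.s
  have me := x.me
  obtain ⟨mek, hk1, hk2⟩ := conj_ex x hk hkA
  let A0 : Subgroup H := cj k A ⊓ fixingSubgroup H (U (h • lam) : Set M)
  by_cases h2 : A0 = ⊥
  · have h3 : ∀ b : cj k A, ∃ a : A, ∀ u ∈ U (h • lam), (b : H) • u = (a : H) • u := fun b => by
      obtain ⟨a, ha, h4⟩ := x.four_a hk2 le_sup_left (Subgroup.mem_sup_right b.2)
      exact ⟨⟨a, ha⟩, h4⟩
    choose F hF using h3
    have h4 : Function.Injective F := by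
      intro b c hbc
      have h5 : (b : H)⁻¹ * c ∈ A0 := by
        refine ⟨(cj k A).mul_mem ((cj k A).inv_mem b.2) c.2, (mem_fixingSubgroup_iff H).2 fun u hu => ?_⟩
        rw [mul_smul, hF c u hu, ← hbc, ← hF b u hu, inv_smul_smul]
      rw [h2, Subgroup.mem_bot, inv_mul_eq_one] at h5
      exact Subtype.ext h5
    have h5 : Function.Surjective F := by
      refine (Function.Injective.bijective_of_nat_card_le h4 ?_).2
      rw [card_cj]
    obtain ⟨b0, hb0⟩ := h5 ⟨a₀, h0⟩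
    have h6 : (b0 : H) • h • lam = a₀ • h • lam := by
      rw [hF b0 _ (s.mem (x.v.mu s)), hb0]
    have h7 := mem_cj.1 b0.2
    have h8 : (b0 : H) • (h • lam) - h • lam =
        k • ((k⁻¹ * b0 * k) • (k⁻¹ • h • lam) - k⁻¹ • h • lam) := by
      rw [smul_sub_conj, smul_inv_smul]
      congr 2
      group
    have h9 := sub_mem_cm h7 (k⁻¹ • h • lam)
    have h10 := hφ _ (cm_le_of_le_bb me.le h9)
    rw [h6] at h8
    by_cases h11 : φ ((k⁻¹ * b0 * k) • (k⁻¹ • h • lam) - k⁻¹ • h • lam) = 0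
    · rw [h10.1 h11] at h8
      rw [h8] at h0'
      exact absurd h11 h0'
    · rw [h10.2 h11] at h8
      have h12 : lam ∈ cm M A := by
        have h13 := (cm M A).sub_mem (sub_mem_cm h0 (h • lam)) h9
        rwa [h8, add_sub_cancel_left] at h13
      exact absurd h12 hn
  · obtain ⟨c, hc, hc1⟩ : ∃ c ∈ A0, c ≠ 1 := by
      by_contra h1
      push Not at h1
      exact h2 (eq_bot_iff.2 fun a ha => Subgroup.mem_bot.2 (h1 a ha))
    have h5 : c • u = u := (mem_fixingSubgroup_iff H).1 hc.2 u hu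
    exact x.i.cv_eq hk1 mek hc.1 hc1 h5 b hb

/-- (5) of #17614 -/
theorem five (x : Fy Lam U lam Ah A f h) (hn : lam ∉ cm M A) {φ : M →+ ZMod 2} {k : H} (hk : k • lam = lam)
    (hφ : ∀ u ∈ U lam, (φ u = 0 → k • u = u) ∧ (φ u ≠ 0 → k • u = u + lam)) (hkA : cj k Ah ≤ Ah)
    {a₀ : H} (h0 : a₀ ∈ A) (h0' : φ (a₀ • h • lam - h • lam) ≠ 0)
    (hU : ∀ u ∈ U lam, ∃ r ∈ cm M A, ∃ d ∈ U lam ⊓ U (h • lam), u = k • r + d) : False := by
  have s := x.i.s
  have hl := x.v.hl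
  have me := x.me
  have mek := me.conj s hl hk
  have c1 : U lam ≤ cv M (cj k A) := le_cv_of_le_bb mek.le
  have c2 : U (h • lam) ≤ cv M (cj k A) := fun u hu b hb => four x hn hk hφ hkA h0 h0' hb hu
  -- `C_{B_λ}(C_φ) = A_φ`
  have hX : ∀ e : H, e ∈ (bb (U lam) : Subgroup H) → (∀ c ∈ cv M (cj k A), e • c = c) → e ∈ cj k A := by
    let X : Subgroup H := bb (U lam) ⊓ fixingSubgroup H (cv M (cj k A) : Set M)
    have h1 : cj k A ≤ X := fun e he => ⟨mek.le he, (mem_fixingSubgroup_iff H).2 fun c hc => hc e he⟩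
    have h2 := s.no hl X inf_le_left
    have h3 : cv M (cj k A) ≤ cv M X := fun c hc e he => (mem_fixingSubgroup_iff H).1 he.2 c hc
    have h4 : Nat.card X ≤ Nat.card (cj k A) := by
      have h5 := card_le h3
      have h6 := mek.ex
      have h7 : 0 < Nat.card (cv M (cj k A)) := Nat.card_pos
      refine Nat.le_of_mul_le_mul_right ?_ h7
      rw [h6]
      exact le_trans (Nat.mul_le_mul_left _ h5) h2
    have h5 : cj k A = X := Subgroup.eq_of_le_of_card_ge h1 h4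
    intro e he he'
    rw [h5]
    exact ⟨he, (mem_fixingSubgroup_iff H).2 he'⟩
  have hf' : ∀ c ∈ cv M (cj k A), (h * f) • c ∈ cv M (cj k A) := by
    intro c hc
    have h1 := (cv M (cj k A)).add_mem (x.v.f'_sub s c1 c2 c) hc
    rwa [sub_add_cancel] at h1
  let S : AddSubgroup M := (cm M A).comap (DistribSMul.toAddMonoidHom M (k⁻¹ * (h * f)⁻¹))
  have hS : ∀ v : M, v ∈ S ↔ k⁻¹ • (h * f)⁻¹ • v ∈ cm M A := fun v => by
    rw [← mul_smul]
    exact Iff.rfl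
  -- the commutator
  have key : ∀ y ∈ A, ∀ b ∈ cj k A, ∀ m : M,
      ((h * f) * y * (h * f)⁻¹) • (b • m - m) - (b • m - m) ∈ S := by
    intro y hy b hb m
    have hy' : (h * f) * y * (h * f)⁻¹ ∈ (bb (U (h • lam)) : Subgroup H) := by
      have := s.bb_conj (h * f) hl (me.le hy)
      rwa [x.v.f'_lam s] at this
    generalize (h * f) * y * (h * f)⁻¹ = z at hy'
    have hbm : b • h • lam = h • lam := c2 (s.mem (x.v.mu s)) b hb
    have he1 : b * z * b⁻¹ * z⁻¹ ∈ (bb (U (h • lam)) : Subgroup H) := by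
      refine (bb _).mul_mem ?_ ((bb _).inv_mem hy')
      have := s.bb_conj b (x.v.mu s) hy'
      rwa [hbm] at this
    have he2 : ∀ c ∈ cv M (cj k A), (b * z * b⁻¹ * z⁻¹) • c = c := by
      intro c hc
      have h1 : z⁻¹ • c ∈ cv M (cj k A) := by
        have := (cv M (cj k A)).add_mem (c2 (bb_sub ((bb _).inv_mem hy') c)) hc
        rwa [sub_add_cancel] at this
      rw [mul_smul, mul_smul, mul_smul, h1 _ ((cj k A).inv_mem hb), smul_inv_smul, hc b hb]
    have he3 : (h * f)⁻¹ * (b * z * b⁻¹ * z⁻¹) * (h * f) ∈ cj k A := by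
      refine hX _ ?_ fun c hc => ?_
      · have := s.bb_conj (h * f)⁻¹ (x.v.mu s) he1
        rw [inv_inv, f'_sq s x.v, x.v.f'_mu s] at this
        rw [f'_sq s x.v]
        exact this
      · rw [mul_smul, mul_smul, he2 _ (hf' c hc), inv_smul_smul]
    have he4 : ∀ w : M, (b * z * b⁻¹ * z⁻¹) • w - w ∈ S := by
      intro w
      rw [hS, smul_sub_conj, smul_sub_conj, inv_inv, inv_inv]
      exact sub_mem_cm (mem_cj.1 he3) _
    have h1 := S.neg_mem (he4 (z • b • m))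
    have h2 : b • (z • m - m) = z • m - m := c2 (bb_sub hy' m) b hb
    have h3 : -((b * z * b⁻¹ * z⁻¹) • z • b • m - z • b • m) = z • (b • m - m) - (b • m - m) := by
      rw [mul_smul, mul_smul, mul_smul, inv_smul_smul, inv_smul_smul]
      have h4 : b • z • m = b • m + (z • m - m) := by
        rw [← h2, smul_sub]
        abel
      rw [h4, smul_sub]
      abel
    rwa [h3] at h1
  -- `[M, B] ≤ f' R_φ`
  have h5 : ∀ y ∈ A, ∀ r ∈ cm M A, ((h * f) * y * (h * f)⁻¹) • k • r - k • r ∈ S := by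
    intro y hy r hr
    let Q : AddSubgroup M := S.comap ((DistribSMul.toAddMonoidHom M ((h * f) * y * (h * f)⁻¹) -
      AddMonoidHom.id M).comp (DistribSMul.toAddMonoidHom M k))
    have h6 : cm M A ≤ Q := by
      refine cm_le fun a ha m => ?_
      change ((h * f) * y * (h * f)⁻¹) • k • (a • m - m) - k • (a • m - m) ∈ S
      rw [smul_sub_conj]
      exact key y hy _ (conj_mem_cj ha) _
    exact h6 hr
  have h6 : ∀ y ∈ A, ∀ m : M, ((h * f) * y * (h * f)⁻¹) • m - m ∈ S := by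
    intro y hy m
    obtain ⟨u, hu, c, hc, rfl⟩ := x.m_eq m
    obtain ⟨r, hr, d, hd, rfl⟩ := hU u hu
    have hy' : (h * f) * y * (h * f)⁻¹ ∈ (bb (U (h • lam)) : Subgroup H) := by
      have := s.bb_conj (h * f) hl (me.le hy)
      rwa [x.v.f'_lam s] at this
    have h7 := h5 y hy r hr
    have h8 : ((h * f) * y * (h * f)⁻¹) • (k • r + d + c) - (k • r + d + c) =
        ((h * f) * y * (h * f)⁻¹) • k • r - k • r := by
      rw [smul_add, smul_add, hc y hy, bb_fix hy' hd.2]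
      abel
    rw [h8]
    exact h7
  have h7 : ∀ a ∈ A, ∀ m : M, k⁻¹ • (a • m - m) ∈ cm M A := by
    intro a ha m
    have h8 := h6 a ha ((h * f) • m)
    rw [hS, ← smul_sub_conj, inv_smul_smul] at h8
    exact h8
  have h8 := h7 a₀ h0 (h • lam)
  have h9 := hφ _ (cm_le_of_le_bb me.le h8)
  rw [smul_inv_smul] at h9
  have h10 := sub_mem_cm h0 (h • lam)
  by_cases h11 : φ (k⁻¹ • (a₀ • h • lam - h • lam)) = 0
  · rw [← h9.1 h11] at h11
    exact h0' h11
  · have h12 := h9.2 h11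
    have h13 := (cm M A).sub_mem h10 h8
    rw [sub_eq_of_eq_add' h12] at h13
    exact hn h13

/-- **(3)**: `j ≥ 2 ⟹ λ ∈ [M, A]` -/
theorem lam_mem (x : Fy Lam U lam Ah A f h) (hc : 2 < Nat.card A) : lam ∈ cm M A := by
  by_contra hn
  have s := x.i.s
  have hl := x.v.hl
  have me := x.me
  obtain ⟨-, h1, -, h2⟩ := x.card_A
  have h3 : lam ∈ cs (U lam) (h • lam) A me.le ⊔ (U lam ⊓ U (h • lam)) := by
    rw [h1]
    exact s.mem hl
  rw [AddSubgroup.mem_sup] at h3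
  obtain ⟨c1, hc1, d1, hd1, h3⟩ := h3
  -- an element of `[μ, A]` outside `D + ⟨c₁⟩`
  obtain ⟨w, hw, hw'⟩ : ∃ w ∈ cs (U lam) (h • lam) A me.le, w ∉ (U lam ⊓ U (h • lam)) ⊔ AddSubgroup.zmultiples c1 := by
    by_contra h4
    push Not at h4
    have h5 : cs (U lam) (h • lam) A me.le ≤ AddSubgroup.zmultiples c1 := by
      intro w hw
      have h6 := h4 w hw
      rw [AddSubgroup.mem_sup] at h6
      obtain ⟨d, hd, e, he, h7⟩ := h6
      have h8 : e ∈ cs (U lam) (h • lam) A me.le := by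
        rcases mem_zm s he with rfl | rfl
        · exact AddSubgroup.zero_mem _
        · exact hc1
      have h9 : d ∈ cs (U lam) (h • lam) A me.le ⊓ (U lam ⊓ U (h • lam)) := by
        refine ⟨?_, hd⟩
        have : d = w - e := by rw [← h7, add_sub_cancel_right]
        rw [this]
        exact AddSubgroup.sub_mem _ hw h8
      rw [x.disj, AddSubgroup.mem_bot] at h9
      rw [← h7, h9, zero_add]
      exact he
    have h6 := card_le h5
    rw [h2, Nat.card_zmultiples] at h6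
    have h7 : addOrderOf c1 ≤ 2 := by
      refine Nat.le_of_dvd (by norm_num) ?_
      rw [addOrderOf_dvd_iff_nsmul_eq_zero, two_nsmul]
      exact s.two c1
    omega
  obtain ⟨φ, h4, h5⟩ := exists_fun s.two hw'
  have hd : ∀ d ∈ U lam ⊓ U (h • lam), φ d = 0 := fun d hd => h4 d (AddSubgroup.mem_sup_left hd)
  have hc1' : φ c1 = 0 := h4 c1 (AddSubgroup.mem_sup_right (AddSubgroup.mem_zmultiples c1))
  have hlam : φ lam = 0 := by rw [← h3, map_add, hc1', hd d1 hd1, add_zero]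
  obtain ⟨k, hk, hφ, hkA⟩ := x.i.J φ hlam
  obtain ⟨a₀, h0, rfl⟩ := hw
  refine five x hn hk hφ hkA h0 (by rw [h5]; decide) fun u hu => ?_
  rw [← h1, AddSubgroup.mem_sup] at hu
  obtain ⟨c, hc, d, hd', rfl⟩ := hu
  by_cases h6 : φ c = 0
  · exact ⟨c, cs_le_cm hc, d, hd', by rw [(hφ c (cs_le hc)).1 h6]⟩
  · refine ⟨c + c1, (cm M A).add_mem (cs_le_cm hc) (cs_le_cm hc1), d + d1, AddSubgroup.add_mem _ hd' hd1, ?_⟩
    have h7 : φ (c + c1) ≠ 0 := by rw [map_add, hc1', add_zero]; exact h6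
    rw [(hφ _ ((U lam).add_mem (cs_le hc) (cs_le hc1))).2 h7]
    have h8 : c + c1 + lam + (d + d1) = c + d + (c1 + c1) + (d1 + d1) := by
      rw [← h3]
      abel
    rw [h8, s.two, s.two, add_zero, add_zero]

end Cfsg.Agent.Omega.NO3S.TwoMid.Inn.Three

end

section


/-!
# NO-3S TwoMid: inner pairs, (4) fat points (helper144, bb #18799)

`kk lam = {ν ∈ Λ | U_ν = U_λ} ∪ {0}`. For an atom `A ≤ Ah` of order `≥ 4`: `kk ≤ [M, A]`, `U_λ = kk ⊕ (U_λ ∩ U_μ)`,
`|kk| = |A|`; for every atom `|kk| ≤ |A|`. If all atoms have order 2, every exact `X ≤ Ah` is generated by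
transvections.
-/

set_option autoImplicit false
set_option linter.unusedSectionVars false

namespace Cfsg.Agent.Omega.NO3S.TwoMid.Inn.Fat

open Cfsg.Agent.Omega.NOThree.LL.One
open Cfsg.Agent.Omega.NOThree.LL.One.Fx (card_eq_of_smul smul_sub_conj f'_sq card_Z f'_f')
open Cfsg.Agent.Omega.NO3S.TwoMid.Inn.Reg

variable {H : Type*} {M : Type*} [Group H] [AddCommGroup M] [DistribMulAction H M]
variable [Finite H] [Finite M] {Lam : Set M} {U : M → AddSubgroup M} {lam : M} {Ah A X : Subgroup H} {f h : H}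

theorem U_smul (s : Sys H Lam U) {ν : M} (k : H) (hk : ∀ u ∈ U ν, k • u ∈ U ν) {ν' : M}
    (hν' : ν' ∈ Lam) (e : U ν' = U ν) : U (k • ν') = U ν := by
  refine (AddSubgroup.eq_of_le_of_card_ge (fun u hu => ?_) ?_)
  · have h1 := s.mem_smul k hν' hu
    rw [e] at h1
    have h2 := hk _ h1
    rwa [smul_inv_smul] at h2
  · rw [card_U s hν' k, e]

include H in
theorem notMem_zm (s : Sys H Lam U) {ν ν' : M} (hν' : ν' ∈ Lam) (hne : ν' ≠ ν) : ν' ∉ AddSubgroup.zmultiples ν := by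
  intro h1
  rcases mem_zm s h1 with h2 | h2
  · exact s.ne (h2 ▸ hν')
  · exact hne h2

/-- the fat point `K_λ` -/
def kk (s : Sys H Lam U) (lam : M) : AddSubgroup M where
  carrier := {ν | ν = 0 ∨ (ν ∈ Lam ∧ U ν = U lam)}
  add_mem' := by
    rintro ν ν' (rfl | ⟨h1, h2⟩) h'
    · rwa [zero_add]
    rcases h' with rfl | ⟨h3, h4⟩
    · rw [add_zero]; exact Or.inr ⟨h1, h2⟩
    by_cases he : ν' = ν
    · left; rw [he, s.two]
    right
    obtain ⟨φ, h5, h6⟩ := exists_fun s.two (notMem_zm s h3 he)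
    obtain ⟨k, hk, h7⟩ := s.f2 h1 φ (h5 _ (AddSubgroup.mem_zmultiples ν))
    have hkU : ∀ u ∈ U ν, k • u ∈ U ν := by
      intro u hu
      have := s.conj k h1 hu
      rwa [hk] at this
    have h8 : ν' ∈ U ν := by rw [h2, ← h4]; exact s.mem h3
    have h9 : k • ν' = ν + ν' := by rw [(h7 ν' h8).2 (by rw [h6]; decide), add_comm]
    rw [← h9]
    exact ⟨s.smul k h3, (U_smul s k hkU h3 (h4.trans h2.symm)).trans h2⟩
  zero_mem' := Or.inl rfl
  neg_mem' := by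
    intro ν hν
    rw [s.neg_eq]
    exact hν

theorem mem_kk {s : Sys H Lam U} {lam ν : M} : ν ∈ kk s lam ↔ ν = 0 ∨ (ν ∈ Lam ∧ U ν = U lam) := Iff.rfl

theorem kk_le (s : Sys H Lam U) : kk s lam ≤ U lam := by
  rintro ν (rfl | ⟨h1, h2⟩)
  · exact (U lam).zero_mem
  · rw [← h2]; exact s.mem h1

theorem lam_mem_kk (s : Sys H Lam U) (hl : lam ∈ Lam) : lam ∈ kk s lam := Or.inr ⟨hl, rfl⟩

/-- `K_λ ∩ U_μ = 0` -/
theorem kk_disj (i : Ih Lam U lam Ah) (v : Mv Lam U lam f h) : kk i.s lam ⊓ (U lam ⊓ U (h • lam)) = ⊥ := by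
  rw [eq_bot_iff]
  rintro ν ⟨h1, h2⟩
  rcases h1 with h1 | ⟨h1, h3⟩
  · exact h1
  · exfalso
    have h4 := i.col h1 (i.s.smul h i.hl) h2.2
    rw [h3] at h4
    exact v.fmov i.s (bb_fix v.hf h4)

namespace Fy'

theorem card_le_atom (x : Fy Lam U lam Ah A f h) : Nat.card (kk x.i.s lam) ≤ Nat.card A := by
  have h1 := card_sup_of_disj (kk_disj x.i x.v)
  have h2 := card_le (sup_le (kk_le x.i.s) inf_le_left : kk x.i.s lam ⊔ (U lam ⊓ U (h • lam)) ≤ U lam)
  rw [h1, ← x.card_A.1] at h2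
  exact Nat.le_of_mul_le_mul_right h2 Nat.card_pos

/-- `A#` moves `μ` -/
theorem smul_ne (x : Fy Lam U lam Ah A f h) {a : H} (ha : a ∈ A) (ha1 : a ≠ 1) : a • h • lam ≠ h • lam := by
  intro h1
  have h2 : a ∈ ca (h • lam) A := ⟨ha, h1⟩
  rw [x.ca_eq_bot, Subgroup.mem_bot] at h2
  exact ha1 h2

/-- every `a ∈ A#` gives a fat point `ν_a ≡ [μ, a]` mod `D`. -/
theorem exists_fat (x : Fy Lam U lam Ah A f h) (hlam : lam ∈ cm M A) {a : H} (ha : a ∈ A) (ha1 : a ≠ 1) :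
    ∃ ν ∈ kk x.i.s lam, ν ∈ cm M A ∧ ν - (a • h • lam - h • lam) ∈ U lam ⊓ U (h • lam) := by
  have s := x.i.s
  have hl := x.i.hl
  have hmu := x.v.mu s
  set w := a • h • lam - h • lam with hw
  have hwU : w ∈ U lam := bb_sub (x.me.le ha) _
  have hwD : w ∉ U lam ⊓ U (h • lam) := fun h1 => smul_ne x ha ha1 (x.z.two_i (x.hA ha) h1)
  -- `u = f' w`
  have huU : (h * f) • w ∈ U (h • lam) := by
    have := s.conj (h * f) hl hwU
    rwa [x.v.f'_lam s] at this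
  have huD : (h * f) • w ∉ U lam ⊓ U (h • lam) := by
    intro h1
    have h2 := x.v.f'_D s h1
    rw [f'_f' s x.v] at h2
    exact hwD (h2 ▸ h1)
  set u := (h * f) • w with hu
  -- `[u, A] + D = U_λ`
  have h1 : cs (U lam) u A x.me.le ⊓ (U lam ⊓ U (h • lam)) = ⊥ := by
    rw [eq_bot_iff]
    rintro r ⟨⟨b, hb, rfl⟩, h2⟩
    rw [AddSubgroup.mem_bot]
    by_cases hb1 : b = 1
    · rw [hb1, one_smul, sub_self]
    · exact absurd (x.reg hb hb1 huU h2) huD
  have h2 : ca u A = ⊥ := by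
    rw [eq_bot_iff]
    rintro b ⟨hb, h3⟩
    rw [Subgroup.mem_bot]
    by_contra hb1
    have h4 := x.i.cv_eq x.hA x.me hb hb1 h3
    have h5 : u ∈ U (h • lam) ⊓ cv M A := ⟨huU, h4⟩
    rw [x.cvD] at h5
    exact huD h5
  have h3 := card_cs (m := u) x.me.le
  rw [h2, Subgroup.card_bot, one_mul] at h3
  have h4 : cs (U lam) u A x.me.le ⊔ (U lam ⊓ U (h • lam)) = U lam := by
    refine eq_of_card_le (sup_le cs_le inf_le_left) ?_
    rw [card_sup_of_disj h1, ← h3, x.card_A.1]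
  have h5 : lam ∈ cs (U lam) u A x.me.le ⊔ (U lam ⊓ U (h • lam)) := by rw [h4]; exact s.mem hl
  rw [AddSubgroup.mem_sup] at h5
  obtain ⟨_, ⟨a', ha', rfl⟩, d, hd, h6⟩ := h5
  -- `ν = b' a μ`, `b' = f' a' f'⁻¹`
  have hb' : (h * f) * a' * (h * f)⁻¹ ∈ (bb (U (h • lam)) : Subgroup H) := by
    have := s.bb_conj (h * f) hl (x.me.le ha')
    rwa [x.v.f'_lam s] at this
  have h7 : ((h * f) * a' * (h * f)⁻¹) • w - w = h • lam - d := by
    have h8 : (h * f) • (a' • u - u) = ((h * f) * a' * (h * f)⁻¹) • w - w := by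
      rw [smul_sub_conj, hu, f'_f' s x.v]
    have h9 : (h * f) • (lam - d) = h • lam - d := by rw [smul_sub, x.v.f'_lam s, x.v.f'_D s hd]
    rw [← h8, ← h9, ← h6, add_sub_cancel_right]
  have hdA : d ∈ cm M A := by
    have h8 : d = lam - (a' • u - u) := by rw [← h6, add_sub_cancel_left]
    rw [h8]
    exact (cm M A).sub_mem hlam (sub_mem_cm ha' u)
  have h9 : ((h * f) * a' * (h * f)⁻¹) • a • h • lam = w + d := by
    have h10 : a • h • lam = w + h • lam := by rw [hw, sub_add_cancel]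
    rw [h10, smul_add, bb_fix hb' (s.mem hmu), sub_eq_iff_eq_add.1 h7]
    have h11 : h • lam - d + w + h • lam = w - d + (h • lam + h • lam) := by abel
    rw [h11, s.two, add_zero, s.sub_eq]
  have hν : ((h * f) * a' * (h * f)⁻¹) • a • h • lam ∈ Lam := s.smul _ (s.smul _ hmu)
  have hνA : w + d ∈ cm M A := (cm M A).add_mem (sub_mem_cm ha _) hdA
  refine ⟨w + d, Or.inr ⟨h9 ▸ hν, ?_⟩, hνA, by rw [add_sub_cancel_left]; exact hd⟩
  have h12 : U (w + d) ≤ U lam := by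
    intro r hr
    have h13 : r ∈ cv M A := fun b hb =>
      x.i.star (h9 ▸ hν) (cm_mono x.hA hνA) b (x.hA hb) r hr
    rw [← h9] at hr
    have h14 := s.mem_smul _ (s.smul a hmu) hr
    have h15 := s.mem_smul a hmu h14
    set r1 := ((h * f) * a' * (h * f)⁻¹)⁻¹ • r with hr1
    set r0 := a⁻¹ • r1 with hr0
    have h16 : r = ((h * f) * a' * (h * f)⁻¹) • r1 := by rw [hr1, smul_inv_smul]
    have h17 : r1 = a • r0 := by rw [hr0, smul_inv_smul]
    have h18 : r = (a • r0 - r0) + ((((h * f) * a' * (h * f)⁻¹) • r1 - r1) + r0) := by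
      rw [← h17, ← h16]; abel
    have h19 : a • r0 - r0 ∈ U lam := bb_sub (x.me.le ha) _
    have h20 : (((h * f) * a' * (h * f)⁻¹) • r1 - r1) + r0 ∈ U (h • lam) :=
      (U (h • lam)).add_mem (bb_sub hb' _) h15
    have h21 : (((h * f) * a' * (h * f)⁻¹) • r1 - r1) + r0 ∈ cv M A := by
      have h22 := (cv M A).sub_mem h13 (le_cv_of_le_bb x.me.le h19)
      rwa [h18, add_sub_cancel_left] at h22
    have h23 : (((h * f) * a' * (h * f)⁻¹) • r1 - r1) + r0 ∈ U (h • lam) ⊓ cv M A := ⟨h20, h21⟩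
    rw [x.cvD] at h23
    rw [h18]
    exact (U lam).add_mem h19 h23.1
  refine eq_of_card_le h12 ?_
  rw [← h9, card_U s (s.smul a hmu), card_U s hmu, card_U s hl]

/-- **(4)** -/
theorem fat (x : Fy Lam U lam Ah A f h) (hlam : lam ∈ cm M A) :
    kk x.i.s lam ≤ cm M A ∧ kk x.i.s lam ⊔ (U lam ⊓ U (h • lam)) = U lam ∧
      Nat.card (kk x.i.s lam) = Nat.card A := by
  have s := x.i.s
  have h1 : kk x.i.s lam ⊔ (U lam ⊓ U (h • lam)) = U lam := by
    refine le_antisymm (sup_le (kk_le s) inf_le_left) ?_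
    conv_lhs => rw [← x.card_A.2.1]
    refine sup_le ?_ le_sup_right
    rintro _ ⟨a, ha, rfl⟩
    by_cases ha1 : a = 1
    · rw [ha1, one_smul, sub_self]; exact AddSubgroup.zero_mem _
    · obtain ⟨ν, h2, -, h3⟩ := exists_fat x hlam ha ha1
      have h4 : a • h • lam - h • lam = ν - (ν - (a • h • lam - h • lam)) := by abel
      rw [h4]
      exact AddSubgroup.sub_mem _ (AddSubgroup.mem_sup_left h2) (AddSubgroup.mem_sup_right h3)
  refine ⟨fun κ hκ => ?_, h1, ?_⟩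
  · have h2 : κ ∈ cs (U lam) (h • lam) A x.me.le ⊔ (U lam ⊓ U (h • lam)) := by
      rw [x.card_A.2.1]; exact kk_le s hκ
    rw [AddSubgroup.mem_sup] at h2
    obtain ⟨_, ⟨a, ha, rfl⟩, d, hd, h3⟩ := h2
    by_cases ha1 : a = 1
    · rw [ha1, one_smul, sub_self, zero_add] at h3
      have h4 : κ ∈ kk x.i.s lam ⊓ (U lam ⊓ U (h • lam)) := ⟨hκ, h3 ▸ hd⟩
      rw [kk_disj x.i x.v, AddSubgroup.mem_bot] at h4
      rw [h4]; exact AddSubgroup.zero_mem _
    · obtain ⟨ν, h4, h5, h6⟩ := exists_fat x hlam ha ha1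
      have h7 : κ - ν ∈ kk x.i.s lam ⊓ (U lam ⊓ U (h • lam)) := by
        refine ⟨AddSubgroup.sub_mem _ hκ h4, ?_⟩
        have h8 : κ - ν = d - (ν - (a • h • lam - h • lam)) := by rw [← h3]; abel
        rw [h8]
        exact AddSubgroup.sub_mem _ hd h6
      rw [kk_disj x.i x.v, AddSubgroup.mem_bot, sub_eq_zero] at h7
      rw [h7]; exact h5
  · have h2 := card_sup_of_disj (kk_disj x.i x.v)
    rw [h1, ← x.card_A.1] at h2
    exact (Nat.eq_of_mul_eq_mul_right Nat.card_pos h2).symm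

/-- (3) + (4) -/
theorem big (x : Fy Lam U lam Ah A f h) (hc : 2 < Nat.card A) :
    lam ∈ cm M A ∧ kk x.i.s lam ≤ cm M A ∧ kk x.i.s lam ⊔ (U lam ⊓ U (h • lam)) = U lam ∧
      kk x.i.s lam ⊓ (U lam ⊓ U (h • lam)) = ⊥ ∧ Nat.card (kk x.i.s lam) = Nat.card A := by
  have h1 := Three.lam_mem x hc
  have h2 := fat x h1
  exact ⟨h1, h2.1, h2.2.1, kk_disj x.i x.v, h2.2.2⟩

end Fy'

/-! ### existence of atoms, generation -/

/-- a nontrivial exact subgroup contains an atom -/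
theorem exists_atom (i : Ih Lam U lam Ah) (hX : Ex M Ah X) (hX1 : X ≠ ⊥) : ∃ A, ME U lam A ∧ A ≤ X := by
  obtain ⟨A, hA, hmin⟩ := Set.Finite.exists_minimal (Set.toFinite {Y : Subgroup H | Ex M Ah Y ∧ Y ≠ ⊥ ∧ Y ≤ X})
    ⟨X, hX, hX1, le_rfl⟩
  refine ⟨A, ⟨hA.1.le.trans i.le, hA.2.1, hA.1.ex, fun B hB h1 h2 => ?_⟩, hA.2.2⟩
  refine lt_of_le_of_ne (i.no (hB.trans hA.1.le)) fun h3 => h2 ?_
  exact le_antisymm hB (hmin ⟨⟨hB.trans hA.1.le, h3⟩, h1, hB.trans hA.2.2⟩ hB)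

/-- every atom has its `f, h` -/
theorem exists_fy (i : Ih Lam U lam Ah) (me : ME U lam A) (hA : A ≤ Ah) : ∃ f h : H, Fy Lam U lam Ah A f h := by
  obtain ⟨f, fA, hf1⟩ : ∃ f ∈ A, f ≠ 1 := by
    by_contra h1
    push Not at h1
    exact me.ne (eq_bot_iff.2 fun a ha => Subgroup.mem_bot.2 (h1 a ha))
  obtain ⟨h, h1, h2, h3⟩ := i.s.bs i.hl f (me.le fA) hf1
  exact ⟨f, h, i, hA, me, ⟨i.hl, me.le fA, hf1, h1, h2, h3⟩, fA⟩

/-- (3), (4) without `f, h`; `A'` any other atom of any `Ah'` over the same `λ`. -/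
theorem big (i : Ih Lam U lam Ah) (me : ME U lam A) (hA : A ≤ Ah) (hc : 2 < Nat.card A) :
    lam ∈ cm M A ∧ kk i.s lam ≤ cm M A ∧ Nat.card (kk i.s lam) = Nat.card A ∧
      ∀ (Ah' A' : Subgroup H), Ih Lam U lam Ah' → ME U lam A' → A' ≤ Ah' →
        Nat.card A' = Nat.card (kk i.s lam) ∧ kk i.s lam ≤ cm M A' := by
  obtain ⟨f, h, x⟩ := exists_fy i me hA
  obtain ⟨h1, h2, h3, h4, h5⟩ := Fy'.big x hc
  refine ⟨h1, h2, h5, fun Ah' A' i' me' hA' => ?_⟩
  obtain ⟨f', h', x'⟩ := exists_fy i' me' hA'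
  have h6 : Nat.card (kk i.s lam) ≤ Nat.card A' := Fy'.card_le_atom x'
  obtain ⟨-, h7, -, -, h8⟩ := Fy'.big x' (by omega)
  exact ⟨h8.symm, h7⟩

/-- a transvection with centre in `U` -/
def Tv (U : AddSubgroup M) (t : H) : Prop := ∃ c ∈ U, c ≠ 0 ∧ (∃ m : M, t • m ≠ m) ∧ ∀ m : M, t • m = m ∨ t • m = m + c

/-- an atom of order 2 is generated by a transvection -/
theorem tv_of_card (i : Ih Lam U lam Ah) (me : ME U lam A) (hc : Nat.card A ≤ 2) :
    ∃ f ∈ A, f ≠ 1 ∧ (∀ a ∈ A, a = 1 ∨ a = f) ∧ ∃ c ∈ cm M A, c ≠ 0 ∧ c ∈ U lam ∧ (∃ m : M, f • m ≠ m) ∧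
      ∀ m : M, f • m = m ∨ f • m = m + c := by
  have s := i.s
  have h1 : Nat.card A = 2 := by
    refine le_antisymm hc ?_
    have h4 : Nat.card A ≠ 1 := fun h => me.ne (Subgroup.card_eq_one.1 h)
    have h5 : 0 < Nat.card A := Nat.card_pos
    omega
  obtain ⟨f, fA, hf1⟩ : ∃ f ∈ A, f ≠ 1 := by
    by_contra h1
    push Not at h1
    exact me.ne (eq_bot_iff.2 fun a ha => Subgroup.mem_bot.2 (h1 a ha))
  have h2 : ∀ a ∈ A, a = 1 ∨ a = f := by
    intro a ha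
    by_cases h3 : a = 1
    · exact Or.inl h3
    · right
      have h4 := ((Nat.card_eq_two_iff' (1 : A)).1 h1).unique (y₁ := ⟨a, ha⟩) (y₂ := ⟨f, fA⟩)
        (fun h => h3 (congrArg Subtype.val h)) (fun h => hf1 (congrArg Subtype.val h))
      exact congrArg Subtype.val h4
  have h3 : (cv M A).index = 2 := by
    have h4 := me.ex
    rw [h1] at h4
    have h5 : 0 < Nat.card (cv M A) := Nat.card_pos
    refine Nat.eq_of_mul_eq_mul_left h5 ?_
    rw [AddSubgroup.card_mul_index, mul_comm, h4]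
  obtain ⟨m0, hm0⟩ : ∃ m0 : M, f • m0 ≠ m0 := by
    by_contra h4
    push Not at h4
    exact hf1 (s.faith f h4)
  have h4 : ∀ m : M, m ∈ cv M A ↔ f • m = m := fun m =>
    ⟨fun h => h f fA, fun h a ha => by
      rcases h2 a ha with rfl | rfl
      · exact one_smul _ m
      · exact h⟩
  have h5 : f • m0 - m0 ∈ cm M A := sub_mem_cm fA m0
  refine ⟨f, fA, hf1, h2, f • m0 - m0, h5, sub_ne_zero.2 hm0, cm_le_of_le_bb me.le h5, ⟨m0, hm0⟩, fun m => ?_⟩
  by_cases h6 : f • m = m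
  · exact Or.inl h6
  · right
    have h7 : m + m0 ∈ cv M A := by
      rw [AddSubgroup.add_mem_iff_of_index_two h3, h4, h4]
      exact ⟨fun h => absurd h h6, fun h => absurd h hm0⟩
    rw [h4, smul_add] at h7
    rw [s.sub_eq, ← add_assoc, ← sub_eq_iff_eq_add, s.sub_eq, ← sub_eq_iff_eq_add, s.sub_eq, add_right_comm, h7,
      add_assoc, s.two, add_zero]

/-- if all atoms of `Ah` have order 2, an exact `X ≤ Ah` is generated by transvections -/
theorem gen (i : Ih Lam U lam Ah) (hall : ∀ A, ME U lam A → A ≤ Ah → Nat.card A ≤ 2) :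
    ∀ (n : ℕ) (X : Subgroup H), Nat.card X ≤ n → Ex M Ah X →
      X ≤ Subgroup.closure {t | t ∈ X ∧ Tv (M := M) (U lam) t} := by
  intro n
  induction n with
  | zero =>
    intro X h1 _
    have h2 : 0 < Nat.card X := Nat.card_pos
    omega
  | succ n ih =>
    intro X h1 hX
    by_cases hX1 : X = ⊥
    · rw [hX1]; exact bot_le
    obtain ⟨A, me, hAX⟩ := exists_atom i hX hX1
    have hA := hAX.trans hX.le
    obtain ⟨f, h, x⟩ := exists_fy i me hA
    have y : Fz Lam U lam Ah X f h := ⟨i, hX, x.v, hAX x.fA⟩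
    obtain ⟨t, ht, ht1, h2, c, hc, hc0, hcU, hm, h3⟩ := tv_of_card i me (hall A me hA)
    have h4 := y.ca_ex.1
    have h5 : Nat.card (ca (h • lam) X) < Nat.card X := by
      refine lt_of_le_of_ne (Nat.card_le_card_of_injective _ (Subgroup.inclusion_injective inf_le_left)) fun h6 => ?_
      have h7 : ca (h • lam) X = X := Subgroup.eq_of_le_of_card_ge inf_le_left h6.ge
      exact y.f_notMem (by rw [h7]; exact y.fX)
    have h6 := ih _ (by omega) h4
    have h7 : t ∈ Subgroup.closure {t | t ∈ X ∧ Tv (M := M) (U lam) t} :=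
      Subgroup.subset_closure ⟨hAX ht, c, hcU, hc0, hm, h3⟩
    have h8 : ca (h • lam) X ≤ Subgroup.closure {t | t ∈ X ∧ Tv (M := M) (U lam) t} :=
      h6.trans (Subgroup.closure_mono fun t ht => ⟨ht.1.1, ht.2⟩)
    intro b hb
    obtain ⟨a, ha, h9⟩ := x.four_a hX hAX hb
    have h10 : a⁻¹ * b ∈ ca (h • lam) X := by
      refine ⟨X.mul_mem (X.inv_mem (hAX ha)) hb, ?_⟩
      change (a⁻¹ * b) • h • lam = h • lam
      rw [mul_smul, h9 _ (i.s.mem (x.v.mu i.s)), inv_smul_smul]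
    have h11 : a ∈ Subgroup.closure {t | t ∈ X ∧ Tv (M := M) (U lam) t} := by
      rcases h2 a ha with rfl | rfl
      · exact one_mem _
      · exact h7
    have h12 := mul_mem h11 (h8 h10)
    rwa [mul_inv_cancel_left] at h12

/-- (**) -/
theorem dstar (i : Ih Lam U lam Ah) {a : H} (ha : a ∈ Ah) {ν : M} (hν : ν ∈ Lam) (h1 : a • ν - ν ∈ U ν) :
    a • ν = ν := by
  by_contra h2
  have s := i.s
  have h3 : a • ν ∈ U ν := by
    have := (U ν).add_mem h1 (s.mem hν)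
    rwa [sub_add_cancel] at this
  have h4 := s.coll hν (s.smul a hν) h3 h2
  rw [← s.sub_eq] at h4
  exact h2 (i.star h4 (sub_mem_cm ha ν) a ha ν (i.col h4 hν h1))

/-- the centre `c` of an atom of order 2: `U_λ = D ⊕ ⟨c⟩`, `[μ, f] = c`. -/
theorem exists_c (x : Fy Lam U lam Ah A f h) (hc : Nat.card A ≤ 2) : ∃ c ∈ cm M A, c ≠ 0 ∧ c ∈ U lam ∧
    c ∉ U lam ⊓ U (h • lam) ∧ (∀ m : M, f • m = m ∨ f • m = m + c) ∧ f • h • lam = h • lam + c ∧
      ∀ u ∈ U lam, u ∈ U lam ⊓ U (h • lam) ∨ u + c ∈ U lam ⊓ U (h • lam) := by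
  obtain ⟨f', fA', hf1', h2, c, h3, h4, h5, -, h6⟩ := tv_of_card x.i x.me hc
  have h7 : f = f' := by
    rcases h2 f x.fA with h | h
    · exact absurd h x.v.hf1
    · exact h
  rw [← h7] at h6
  have h8 : f • h • lam = h • lam + c := by
    rcases h6 (h • lam) with h | h
    · exact absurd h (x.v.fmov x.i.s)
    · exact h
  have h9 : c ∉ U lam ⊓ U (h • lam) := by
    intro h10
    refine Fy'.smul_ne x x.fA x.v.hf1 (x.z.two_i (x.hA x.fA) ?_)
    rw [h8, add_sub_cancel_left]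
    exact h10
  refine ⟨c, h3, h4, h5, h9, h6, h8, fun u hu => ?_⟩
  have h10 : u ∈ cs (U lam) (h • lam) A x.me.le ⊔ (U lam ⊓ U (h • lam)) := by
    rw [x.card_A.2.1]; exact hu
  rw [AddSubgroup.mem_sup] at h10
  obtain ⟨_, ⟨a, ha, rfl⟩, d, hd, h11⟩ := h10
  rcases h2 a ha with rfl | rfl
  · left
    rw [one_smul, sub_self, zero_add] at h11
    rw [← h11]; exact hd
  · right
    rw [← h7, h8, add_sub_cancel_left] at h11
    rw [← h11, add_right_comm, x.i.s.two, zero_add]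
    exact hd

end Cfsg.Agent.Omega.NO3S.TwoMid.Inn.Fat

end
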